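import Groth.Agent.TateLoc.K620.HopfSeq
import Groth.Agent.Sga3B.GaPts

/-!
# The additive group as the spectrum of a Hopf algebra

* `exists_ga_model`: over a commutative ring `k`, `Red.Ga` is the spectrum of a Hopf algebra `E` with a primitive element `t` such
  that algebra maps `E → R` correspond to elements of `R` (the image of `t`);
* `exists_ga_iso`: a Hopf algebra which is a polynomial ring in one primitive element is the Hopf algebra of `Red.Ga`.
-/

set_option autoImplicit false
universe u
open CategoryTheory CategoryTheory.Limits MonoidalCategory CartesianMonoidalCategory MonObj GrpObj AlgebraicGeometry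
open TensorProduct
open Groth.Agent.Books Groth.Agent.Books.AffBridge Groth.Agent.Books.AffBridge2
open Groth.Agent.Sga3B.GaPts

namespace K620.HopfGa

variable (k : Type u) [CommRing k]

/-- Isomorphic Hopf algebras have isomorphic spectra. -/
noncomputable def specIso {A B : Type u} [CommRing A] [CommRing B] [HopfAlgebra k A] [HopfAlgebra k B]
    (q : A ≃ₐc[k] B) : SpecOver k A ≅ SpecOver k B where
  hom := specMap k ((q.symm : B →ₐc[k] A) : B →ₐ[k] A)
  inv := specMap k ((q : A →ₐc[k] B) : A →ₐ[k] B)
  hom_inv_id := by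
    rw [← specMap_comp]
    have : ((q.symm : B →ₐc[k] A) : B →ₐ[k] A).comp ((q : A →ₐc[k] B) : A →ₐ[k] B) = AlgHom.id k A :=
      AlgHom.ext fun a => q.symm_apply_apply a
    rw [this, specMap_id]
  inv_hom_id := by
    rw [← specMap_comp]
    have : ((q : A →ₐc[k] B) : A →ₐ[k] B).comp ((q.symm : B →ₐc[k] A) : B →ₐ[k] A) = AlgHom.id k B :=
      AlgHom.ext fun a => q.apply_symm_apply a
    rw [this, specMap_id]

instance isMonHom_specIso_hom {A B : Type u} [CommRing A] [CommRing B] [HopfAlgebra k A] [HopfAlgebra k B]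
    (q : A ≃ₐc[k] B) : IsMonHom (specIso k q).hom :=
  isMonHom_specMap k (q.symm : B →ₐc[k] A)

/-- the coordinate of a point of `Ga` with values in a spectrum -/
noncomputable def coord {R : Type u} [CommRing R] [Algebra k R] (x : SpecOver k R ⟶ Red.Ga (Spec (CommRingCat.of k))) : R :=
  (Scheme.ΓSpecIso (CommRingCat.of R)).hom (Red.gaFn x)

lemma coord_bijective (R : Type u) [CommRing R] [Algebra k R] :
    Function.Bijective (coord k : (SpecOver k R ⟶ Red.Ga (Spec (CommRingCat.of k))) → R) := by
  have h1 : Function.Bijective (Red.gaFn : (SpecOver k R ⟶ Red.Ga (Spec (CommRingCat.of k))) → _) :=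
    ⟨gaFn_injective _, fun y => ⟨gaPt _ y, gaFn_gaPt _ y⟩⟩
  exact (ConcreteCategory.bijective_of_isIso (Scheme.ΓSpecIso (CommRingCat.of R)).hom).comp h1

lemma coord_mul {R : Type u} [CommRing R] [Algebra k R] (x y : SpecOver k R ⟶ Red.Ga (Spec (CommRingCat.of k))) :
    coord k (x * y) = coord k x + coord k y := by
  rw [coord, gaFn_mul]
  exact map_add (Scheme.ΓSpecIso (CommRingCat.of R)).hom.hom _ _

lemma coord_comp {R R' : Type u} [CommRing R] [Algebra k R] [CommRing R'] [Algebra k R'] (f : R →ₐ[k] R')
    (x : SpecOver k R ⟶ Red.Ga (Spec (CommRingCat.of k))) : coord k (specMap k f ≫ x) = f (coord k x) := by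
  rw [coord, gaFn_comp, coord]
  have h := Scheme.ΓSpecIso_naturality (CommRingCat.ofHom f.toRingHom)
  exact congr($h (Red.gaFn x))

/-- Hopf algebra model of the additive group. -/
theorem exists_ga_model : ∃ (E : Type u) (_ : CommRing E) (_ : HopfAlgebra k E)
    (e : Red.Ga (Spec (CommRingCat.of k)) ≅ SpecOver k E) (_ : IsMonHom e.hom) (t : E),
    CoalgebraStruct.comul (R := k) t = t ⊗ₜ[k] 1 + 1 ⊗ₜ[k] t ∧
    ∀ (R : Type u) [CommRing R] [Algebra k R], Function.Bijective (fun f : E →ₐ[k] R => f t) := by
  have haff : IsAffine (Red.Ga (Spec (CommRingCat.of k))).left := by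
    have h1 : IsAffineHom (Red.GaZ.{u}).hom := inferInstanceAs (IsAffineHom (Spec.map _))
    have : IsAffineHom (Red.Ga (Spec (CommRingCat.of k))).hom :=
      inferInstanceAs (IsAffineHom (pullback.snd (Red.GaZ.{u}).hom (Limits.IsTerminal.from specULiftZIsTerminal _)))
    exact isAffine_of_isAffineHom (Red.Ga (Spec (CommRingCat.of k))).hom
  obtain ⟨E, _, _, e, he⟩ := exists_hopf k (Red.Ga (Spec (CommRingCat.of k)))
  have hinv : IsMonHom e.inv := inferInstance
  have key : ∀ (R : Type u) [CommRing R] [Algebra k R] (f : E →ₐ[k] R),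
      coord k (specMap k f ≫ e.inv) = f (coord k e.inv) := fun R _ _ f => coord_comp k f e.inv
  refine ⟨E, inferInstance, inferInstance, e, he, coord k e.inv, ?_, ?_⟩
  · let i₁ : WithConv (E →ₐ[k] E ⊗[k] E) := WithConv.toConv Algebra.TensorProduct.includeLeft
    let i₂ : WithConv (E →ₐ[k] E ⊗[k] E) := WithConv.toConv Algebra.TensorProduct.includeRight
    have h1 : coord k (specMap k (i₁ * i₂).ofConv ≫ e.inv) =
        i₁.ofConv (coord k e.inv) + i₂.ofConv (coord k e.inv) := by
      have h0 : specMap k (i₁ * i₂).ofConv ≫ e.inv = (specMap k i₁.ofConv ≫ e.inv) * (specMap k i₂.ofConv ≫ e.inv) := by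
        rw [specMap_mul]
        exact MonObj.mul_comp _ _ e.inv
      rw [h0, coord_mul, key, key]
    rw [key] at h1
    have h2 : (i₁ * i₂).ofConv (coord k e.inv) = CoalgebraStruct.comul (R := k) (coord k e.inv) := by
      have h3 := AlgHom.convMul_apply i₁ i₂ (coord k e.inv)
      refine h3.trans ?_
      have hid : Algebra.TensorProduct.lift
          (Algebra.TensorProduct.includeLeft : E →ₐ[k] E ⊗[k] E)
          (Algebra.TensorProduct.includeRight : E →ₐ[k] E ⊗[k] E) (fun _ _ => Commute.all _ _) =
          AlgHom.id k _ := by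
        ext <;> simp
      exact congr($hid (CoalgebraStruct.comul (R := k) (coord k e.inv)))
    rw [← h2, h1]
    rfl
  · intro R _ _
    have h1 : (fun f : E →ₐ[k] R => f (coord k e.inv)) =
        coord k ∘ (fun x : SpecOver k R ⟶ SpecOver k E => x ≫ e.inv) ∘ specMap k := by
      funext f
      exact (key R f).symm
    rw [h1]
    refine (coord_bijective k R).comp (Function.Bijective.comp ?_ (specEquiv k).bijective)
    exact (Iso.homToEquiv e.symm).bijective

/-- A Hopf algebra which is a polynomial ring in one primitive element is the Hopf algebra of the additive group. -/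
theorem exists_ga_iso {D : Type u} [CommRing D] [HopfAlgebra k D] (x : D)
    (hx : CoalgebraStruct.comul (R := k) x = x ⊗ₜ[k] 1 + 1 ⊗ₜ[k] x)
    (hbij : Function.Bijective (Polynomial.aeval x : Polynomial k →ₐ[k] D)) :
    ∃ e : Red.Ga (Spec (CommRingCat.of k)) ≅ SpecOver k D, IsMonHom e.hom := by
  obtain ⟨E, _, _, e, he, t, ht, huniv⟩ := exists_ga_model k
  obtain ⟨φ, hφ⟩ := (huniv D).surjective x
  let α : Polynomial k ≃ₐ[k] D := AlgEquiv.ofBijective (Polynomial.aeval x) hbij
  let ψ : D →ₐ[k] E := (Polynomial.aeval t : Polynomial k →ₐ[k] E).comp (α.symm : D →ₐ[k] Polynomial k)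
  have hαx : α.symm x = Polynomial.X := by
    rw [AlgEquiv.symm_apply_eq]
    exact (Polynomial.aeval_X x).symm
  have hψ : ψ x = t := by
    change Polynomial.aeval t (α.symm x) = t
    rw [hαx, Polynomial.aeval_X]
  have hψφ : ψ.comp φ = AlgHom.id k E := (huniv E).injective (by
    change ψ (φ t) = t
    have : φ t = x := hφ
    rw [this, hψ])
  have hφψ : φ.comp ψ = AlgHom.id k D := by
    ext d
    obtain ⟨p, rfl⟩ := hbij.2 d
    have h2 : ((φ.comp ψ).comp (Polynomial.aeval x : Polynomial k →ₐ[k] D)) =
        (Polynomial.aeval x : Polynomial k →ₐ[k] D) := by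
      apply Polynomial.algHom_ext
      change φ (ψ (Polynomial.aeval x Polynomial.X)) = Polynomial.aeval x Polynomial.X
      rw [Polynomial.aeval_X, hψ]
      exact hφ
    exact congr($h2 p)
  let Φ : E →ₐc[k] D := BialgHom.ofAlgHom φ
    ((huniv k).injective (by
      change CoalgebraStruct.counit (R := k) (φ t) = CoalgebraStruct.counit (R := k) t
      have h3 : φ t = x := hφ
      have hprim : ∀ (H : Type u) [CommRing H] [Bialgebra k H] (y : H),
          CoalgebraStruct.comul (R := k) y = y ⊗ₜ[k] 1 + 1 ⊗ₜ[k] y → CoalgebraStruct.counit (R := k) y = 0 := by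
        intro H _ _ y hy
        have h4 := Coalgebra.rTensor_counit_comul (R := k) y
        rw [hy, map_add, LinearMap.rTensor_tmul, LinearMap.rTensor_tmul, Bialgebra.counit_one] at h4
        have h5 : (CoalgebraStruct.counit (R := k) y) ⊗ₜ[k] (1 : H) = 0 := by
          simpa using h4
        have h6 := congrArg (TensorProduct.lid k H) h5
        rw [TensorProduct.lid_tmul, map_zero] at h6
        have h7 := congrArg (CoalgebraStruct.counit (R := k)) h6
        rw [map_smul, Bialgebra.counit_one, map_zero, smul_eq_mul, _root_.mul_one] at h7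
        exact h7
      rw [h3, hprim D x hx, hprim E t ht]))
    ((huniv (D ⊗[k] D)).injective (by
      change TensorProduct.map φ.toLinearMap φ.toLinearMap (CoalgebraStruct.comul (R := k) t) =
        CoalgebraStruct.comul (R := k) (φ t)
      have h3 : φ t = x := hφ
      rw [h3, hx, ht, map_add, TensorProduct.map_tmul, TensorProduct.map_tmul]
      change φ t ⊗ₜ[k] φ 1 + φ 1 ⊗ₜ[k] φ t = _
      rw [h3, map_one]))
  have hΦb : Function.Bijective Φ := by
    refine ⟨fun a b hab => ?_, fun d => ⟨ψ d, congr($hφψ d)⟩⟩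
    have h1 : ψ (φ a) = ψ (φ b) := congrArg ψ hab
    exact (congr($hψφ a)).symm.trans (h1.trans (congr($hψφ b)))
  let q : E ≃ₐc[k] D := BialgEquiv.ofBijective Φ hΦb
  exact ⟨e ≪≫ specIso k q, inferInstanceAs (IsMonHom (e.hom ≫ (specIso k q).hom))⟩

end K620.HopfGa
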