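import Groth.Agent.CGrpSh.K731.Basic
import Groth.Agent.Books.AffBridge2
import Groth.Agent.Books.SubHopfFG
import Groth.Agent.MiscA.HopfFlat
import Groth.Agent.Sga3.H829.Largest
import Groth.Agent.S3018

/-!
# Short exact sequences of affine commutative group schemes over a field, in Hopf algebra terms

* `shortExact_of_isKernel`: a faithfully flat, finitely presented homomorphism of commutative group schemes with kernel
  `f` gives a short exact sequence of fppf sheaves;
* `shortExact_spec`: an injective bialgebra map `φ : B → A` of commutative cocommutative Hopf algebras over a field, `A` of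
  finite type, gives the short exact sequence `Spec (A / B⁺A) → Spec A → Spec B`;
* `finiteType_of_injective`: sub-Hopf algebras of a Hopf algebra of finite type are of finite type;
* `exists_quotient`: every Hopf ideal `I` of `A` is of the form `B⁺A` for some `B` of finite type.
-/

set_option autoImplicit false
universe u
open CategoryTheory CategoryTheory.Limits MonoidalCategory CartesianMonoidalCategory MonObj GrpObj AlgebraicGeometry
open TensorProduct
open Groth.Agent.Books Groth.Agent.Books.AffBridge Groth.Agent.Books.AffBridge2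

namespace K620.HopfSeq

/-! ### scheme level -/

/-- A faithfully flat homomorphism, locally of finite presentation, of commutative group schemes is an epimorphism of
fppf sheaves; with its kernel it gives a short exact sequence. -/
theorem shortExact_of_isKernel {S : Scheme.{u}}
    {F G H : Over S} [GrpObj F] [IsCommMonObj F] [GrpObj G] [IsCommMonObj G] [GrpObj H] [IsCommMonObj H]
    (f : F ⟶ G) (p : G ⟶ H) [IsMonHom f] [IsMonHom p] [Flat p.left] [Surjective p.left]
    [LocallyOfFinitePresentation p.left]
    (hker : AlgGrp.IsKernel f p) (w : f ≫ p = 1) :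
    (CGrpSh.seq Scheme.fppfPrecoverage f p w).ShortExact := by
  refine ShortComplex.ShortExact.mk' ?_ ?_ ?_
  · apply K731.Basic.exact_of_sections
    intro T x hx
    have hx' : x.down.toMul ≫ p = 1 := congrArg (fun z => z.down.toMul) hx
    have h2 : x.down.toMul ≫ p = toUnit T ≫ η[H] := by
      rw [hx', Hom.one_def]
    refine ⟨ULift.up (Additive.ofMul (hker.lift _ _ h2)), ?_⟩
    apply ULift.ext
    change Additive.ofMul (hker.lift _ _ h2 ≫ f) = _
    rw [hker.lift_fst]
    rfl
  · apply K731.Basic.mono_of_injective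
    intro T x y hxy
    have h1 : x.down.toMul ≫ f = y.down.toMul ≫ f := congrArg (fun z => z.down.toMul) hxy
    have h2 : x.down.toMul = y.down.toMul := hker.hom_ext h1 (toUnit_unique _ _)
    exact ULift.ext _ _ h2
  · apply K731.Basic.epi_of_exists_cover
    intro T b
    let t : T ⟶ H := b.down.toMul
    refine ⟨Presieve.singleton (pullback.fst t.left p.left), Scheme.Hom.singleton_mem_fppfPrecoverage _, ?_⟩
    rintro Y _ ⟨⟩
    let s : Over.mk (pullback.fst t.left p.left ≫ T.hom) ⟶ G := Over.homMk (pullback.snd t.left p.left) (by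
      have h1 := Over.w p
      have h2 := Over.w t
      rw [← h1, ← pullback.condition_assoc, h2]
      rfl)
    refine ⟨ULift.up (Additive.ofMul s), ?_⟩
    apply ULift.ext
    change Additive.ofMul (s ≫ p) = Additive.ofMul ((Over.homMk (pullback.fst t.left p.left) :
      Over.mk (pullback.fst t.left p.left ≫ T.hom) ⟶ T) ≫ t)
    congr 1
    ext1
    exact pullback.condition.symm

/-- An isomorphism of commutative group schemes gives a kernel square `1 → G → H`; more precisely, the composite of a
kernel with its homomorphism is trivial. -/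
theorem isKernel_w {S : Scheme.{u}} {F G H : Over S} [GrpObj H] {f : F ⟶ G} {p : G ⟶ H}
    (hker : AlgGrp.IsKernel f p) : f ≫ p = 1 := by
  rw [hker.w, Hom.one_def]

/-! ### Hopf algebra level -/

section Hopf

variable {k : Type u} [Field k]

/-- The Hopf algebra of a commutative affine group scheme is cocommutative. -/
theorem isCocomm_of_isCommMonObj (A : Type u) [CommRing A] [HopfAlgebra k A] [IsCommMonObj (SpecOver k A)] :
    Coalgebra.IsCocomm k A :=
  Groth.Agent.Sga3.H829.Largest.isCocomm_of_points fun _ x y => _root_.mul_comm x y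

/-- Transport of commutativity along an isomorphism of group objects. -/
theorem isCommMonObj_of_iso {S : Scheme.{u}} {G H : Over S} [GrpObj G] [IsCommMonObj G] [GrpObj H] (e : G ≅ H)
    [IsMonHom e.hom] : IsCommMonObj H where
  mul_comm := by
    have h1 : (e.hom ⊗ₘ e.hom) ≫ μ[H] = μ[G] ≫ e.hom := (IsMonHom.mul_hom e.hom).symm
    rw [← cancel_epi (e.hom ⊗ₘ e.hom), BraidedCategory.braiding_naturality_assoc, h1,
      IsCommMonObj.mul_comm_assoc]

/-- Every affine commutative group scheme over a field is the spectrum of a cocommutative Hopf algebra. -/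
theorem exists_model (G : Over (Spec (CommRingCat.of k))) [GrpObj G] [IsCommMonObj G] [IsAffine G.left] :
    ∃ (A : Type u) (_ : CommRing A) (_ : HopfAlgebra k A) (_ : Coalgebra.IsCocomm k A) (e : G ≅ SpecOver k A),
      IsMonHom e.hom ∧ (LocallyOfFiniteType G.hom → Algebra.FiniteType k A) := by
  obtain ⟨A, _, _, e, he⟩ := exists_hopf k G
  have hA : IsCommMonObj (SpecOver k A) := isCommMonObj_of_iso e
  refine ⟨A, inferInstance, inferInstance, isCocomm_of_isCommMonObj A, e, he, fun h => ?_⟩
  rw [← locallyOfFiniteType_specOver_iff]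
  have : (SpecOver k A).hom = e.inv.left ≫ G.hom := (Over.w e.inv).symm
  rw [this]
  infer_instance

/-- Quotients of cocommutative bialgebras are cocommutative. -/
theorem isCocomm_of_surjective {A B : Type*} [CommRing A] [CommRing B] [Bialgebra k A] [Bialgebra k B]
    [Coalgebra.IsCocomm k A] (f : A →ₐc[k] B) (hf : Function.Surjective f) : Coalgebra.IsCocomm k B where
  comm_comp_comul := by
    ext b
    obtain ⟨a, rfl⟩ := hf b
    change TensorProduct.comm k B B (CoalgebraStruct.comul (R := k) (f a)) = CoalgebraStruct.comul (R := k) (f a)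
    have h1 : CoalgebraStruct.comul (R := k) (f a) =
        TensorProduct.map (f : A →ₗ[k] B) (f : A →ₗ[k] B) (CoalgebraStruct.comul (R := k) a) :=
      (CoalgHomClass.map_comp_comul_apply f a).symm
    rw [h1]
    conv_rhs => rw [← Coalgebra.comm_comul k a]
    generalize CoalgebraStruct.comul (R := k) a = z
    induction z with
    | zero => simp
    | add x y hx hy => simp only [map_add, hx, hy]
    | tmul x y => rfl

instance isCocomm_quotient {A : Type*} [CommRing A] [HopfAlgebra k A] [Coalgebra.IsCocomm k A] (I : Ideal A)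
    [I.IsHopfIdeal k] : Coalgebra.IsCocomm k (A ⧸ I) :=
  isCocomm_of_surjective (Bialgebra.Quotient.mkBialgHom (R := k) I) Ideal.Quotient.mk_surjective

/-- Sub-bialgebras of cocommutative bialgebras over a field are cocommutative. -/
theorem isCocomm_of_injective {A B : Type*} [CommRing A] [CommRing B] [Bialgebra k A] [Bialgebra k B]
    [Coalgebra.IsCocomm k A] (f : B →ₐc[k] A) (hf : Function.Injective f) : Coalgebra.IsCocomm k B where
  comm_comp_comul := by
    ext b
    change TensorProduct.comm k B B (CoalgebraStruct.comul (R := k) b) = CoalgebraStruct.comul (R := k) b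
    have hinj : Function.Injective (TensorProduct.map (f : B →ₗ[k] A) (f : B →ₗ[k] A)) :=
      TensorProduct.map_injective_of_flat_flat _ _ hf hf
    apply hinj
    have h1 : TensorProduct.map (f : B →ₗ[k] A) (f : B →ₗ[k] A) (CoalgebraStruct.comul (R := k) b) =
        CoalgebraStruct.comul (R := k) (f b) :=
      CoalgHomClass.map_comp_comul_apply f b
    have h2 : ∀ z : B ⊗[k] B, TensorProduct.map (f : B →ₗ[k] A) (f : B →ₗ[k] A) (TensorProduct.comm k B B z) =
        TensorProduct.comm k A A (TensorProduct.map (f : B →ₗ[k] A) (f : B →ₗ[k] A) z) := by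
      intro z
      induction z with
      | zero => simp
      | add x y hx hy => simp only [map_add, hx, hy]
      | tmul x y => rfl
    rw [h2, h1, Coalgebra.comm_comul]

variable {A B : Type u} [CommRing A] [CommRing B] [HopfAlgebra k A] [HopfAlgebra k B]

/-- Right inverses in the convolution monoid of algebra maps. -/
theorem conv_mul_antipode {C : Type*} [CommRing C] [Algebra k C] (f : A →ₐ[k] C) :
    WithConv.toConv f * WithConv.toConv (f.comp (HopfAlgebra.antipodeAlgHom k A)) = 1 := by
  have h := convAntipode_mul k (f.comp (HopfAlgebra.antipodeAlgHom k A))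
  have h2 : (f.comp (HopfAlgebra.antipodeAlgHom k A)).comp (HopfAlgebra.antipodeAlgHom k A) = f := by
    ext a
    exact congrArg f (BorelAlg.antipode_antipode a)
  rwa [h2] at h

/-- An injective bialgebra map of commutative Hopf algebras over a field is faithfully flat. -/
theorem faithfullyFlat (φ : B →ₐc[k] A) (hφ : Function.Injective φ) :
    ((φ : B →ₐ[k] A) : B →+* A).FaithfullyFlat := by
  let _ := ((φ : B →ₐ[k] A) : B →+* A).toAlgebra
  have : IsScalarTower k B A := IsScalarTower.of_algebraMap_eq fun c => ((φ : B →ₐ[k] A).commutes c).symm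
  exact Groth.Agent.MiscA.HopfFlat.faithfullyFlat_of_injective' φ (fun _ => rfl) hφ

/-- An injective bialgebra map `φ : B → A` of commutative Hopf algebras over a field such that the augmentation ideal of
`A` is generated by that of `B` is surjective. -/
theorem surjective_of_aug (φ : B →ₐc[k] A) (hφ : Function.Injective φ)
    (h : RingHom.ker (Bialgebra.counitAlgHom k A) ≤
      Ideal.map (φ : B →ₐ[k] A) (RingHom.ker (Bialgebra.counitAlgHom k B))) :
    Function.Surjective φ := by
  let _ := ((φ : B →ₐ[k] A) : B →+* A).toAlgebra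
  have : IsScalarTower k B A := IsScalarTower.of_algebraMap_eq fun c => ((φ : B →ₐ[k] A).commutes c).symm
  have hff : Module.FaithfullyFlat B A :=
    Groth.Agent.MiscA.HopfFlat.faithfullyFlat_of_injective' φ (fun _ => rfl) hφ
  let i₁ : A →ₐ[k] A ⊗[B] A := Algebra.TensorProduct.includeLeft
  let i₂ : A →ₐ[k] A ⊗[B] A :=
    (Algebra.TensorProduct.includeRight (R := B) (A := A) (B := A)).restrictScalars k
  have hj : i₁.comp (φ : B →ₐ[k] A) = i₂.comp (φ : B →ₐ[k] A) := by
    ext b
    change (algebraMap B A b) ⊗ₜ[B] (1 : A) = (1 : A) ⊗ₜ[B] (algebraMap B A b)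
    rw [Algebra.algebraMap_eq_smul_one, TensorProduct.smul_tmul]
  let S := HopfAlgebra.antipodeAlgHom k A
  let d : WithConv (A →ₐ[k] A ⊗[B] A) := WithConv.toConv (i₁.comp S) * WithConv.toConv i₂
  have hd : d.ofConv.comp (φ : B →ₐ[k] A) =
      (1 : WithConv (B →ₐ[k] A ⊗[B] A)).ofConv := by
    rw [AlgHom.convMul_comp_bialgHom_distrib]
    have h1 : (WithConv.toConv (i₁.comp S)).ofConv.comp (φ : B →ₐ[k] A) =
        (i₁.comp (φ : B →ₐ[k] A)).comp (HopfAlgebra.antipodeAlgHom k B) := by
      ext b
      exact congrArg i₁ (antipode_bialgHom_apply φ b)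
    have h2 : (WithConv.toConv i₂).ofConv.comp (φ : B →ₐ[k] A) = i₁.comp (φ : B →ₐ[k] A) := hj.symm
    rw [h1, h2, convAntipode_mul]
  have hd1 : d = 1 := by
    apply WithConv.ofConv_injective
    have hker : ∀ a ∈ RingHom.ker (Bialgebra.counitAlgHom k A), d.ofConv a = 0 := by
      intro a ha
      have hle : Ideal.map (φ : B →ₐ[k] A) (RingHom.ker (Bialgebra.counitAlgHom k B)) ≤
          RingHom.ker (d.ofConv : A →+* A ⊗[B] A) := by
        rw [Ideal.map_le_iff_le_comap]
        intro b hb
        rw [Ideal.mem_comap, RingHom.mem_ker]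
        have h3 : d.ofConv (φ b) = algebraMap k _ (CoalgebraStruct.counit (R := k) b) := congr($hd b)
        have hb' : CoalgebraStruct.counit (R := k) b = 0 := hb
        rw [hb', map_zero] at h3
        exact h3
      exact hle (h ha)
    ext a
    have h4 : a - algebraMap k A (CoalgebraStruct.counit a) ∈ RingHom.ker (Bialgebra.counitAlgHom k A) := by
      rw [RingHom.mem_ker, map_sub, AlgHom.commutes]
      simp
    have h5 := hker _ h4
    rw [map_sub, AlgHom.commutes, sub_eq_zero] at h5
    exact h5
  have h12 : i₁ = i₂ := by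
    have h6 : WithConv.toConv i₁ * d = WithConv.toConv i₂ := by
      change WithConv.toConv i₁ * (WithConv.toConv (i₁.comp S) * WithConv.toConv i₂) = _
      rw [← _root_.mul_assoc, conv_mul_antipode, _root_.one_mul]
    rw [hd1, _root_.mul_one] at h6
    exact WithConv.toConv_injective h6
  intro a
  let Q := A ⧸ LinearMap.range (Algebra.linearMap B A)
  have h7 : (1 : A) ⊗ₜ[B] ((LinearMap.range (Algebra.linearMap B A)).mkQ a) = 0 := by
    have h8 : (1 : A) ⊗ₜ[B] a = a ⊗ₜ[B] (1 : A) := congr($h12.symm a)
    have h9 := congrArg (LinearMap.lTensor A (LinearMap.range (Algebra.linearMap B A)).mkQ) h8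
    rw [LinearMap.lTensor_tmul, LinearMap.lTensor_tmul] at h9
    rw [h9]
    have : (LinearMap.range (Algebra.linearMap B A)).mkQ (1 : A) = 0 := by
      rw [Submodule.mkQ_apply, Submodule.Quotient.mk_eq_zero]
      exact ⟨1, (algebraMap B A).map_one⟩
    rw [this, TensorProduct.tmul_zero]
  rw [Module.FaithfullyFlat.one_tmul_eq_zero_iff, Submodule.mkQ_apply, Submodule.Quotient.mk_eq_zero] at h7
  obtain ⟨b, hb⟩ := h7
  exact ⟨b, hb⟩

/-- Sub-Hopf algebras of a commutative Hopf algebra of finite type over a field are of finite type. -/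
theorem finiteType_of_injective [Algebra.FiniteType k A] (φ : B →ₐc[k] A) (hφ : Function.Injective φ) :
    Algebra.FiniteType k B := by
  have hnoeth : IsNoetherianRing A := Algebra.FiniteType.isNoetherianRing k A
  set T : Set A := (φ : B →ₐ[k] A) '' (RingHom.ker (Bialgebra.counitAlgHom k B) : Set B) with hT
  have hfg : (Ideal.span T).FG := IsNoetherian.noetherian _
  obtain ⟨t, htT, ht⟩ := Submodule.fg_span_iff_fg_span_finset_subset T |>.1 hfg
  obtain ⟨B', hB', hfg', hs'⟩ := SubHopfFG.exists_fg_subHopf (k := k) (A := B)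
    ((φ : B →ₐ[k] A) ⁻¹' (t : Set A)) (t.finite_toSet.preimage hφ.injOn)
  let _ := hB'.hopf
  have hFT : Algebra.FiniteType k B' := (Subalgebra.fg_iff_finiteType B').1 hfg'
  have hff := faithfullyFlat φ hφ
  have hle : Ideal.map (φ : B →ₐ[k] A) (RingHom.ker (Bialgebra.counitAlgHom k B)) ≤
      Ideal.map (φ : B →ₐ[k] A)
        (Ideal.map (hB'.val : B' →ₐ[k] B) (RingHom.ker (Bialgebra.counitAlgHom k B'))) := by
    change Ideal.span T ≤ _
    have h1 : Ideal.span T = Ideal.span (t : Set A) := ht
    rw [h1]
    refine Ideal.span_le.2 ?_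
    intro a ha
    obtain ⟨b, hb0, rfl⟩ := htT ha
    have h2 : b ∈ B' := hs' ha
    have h3 : (⟨b, h2⟩ : B') ∈ RingHom.ker (Bialgebra.counitAlgHom k B') := hb0
    exact Ideal.mem_map_of_mem (φ : B →ₐ[k] A) (Ideal.mem_map_of_mem (hB'.val : B' →ₐ[k] B) h3)
  have hsurj : Function.Surjective hB'.val := by
    refine surjective_of_aug hB'.val hB'.val_injective ?_
    let _ := ((φ : B →ₐ[k] A) : B →+* A).toAlgebra
    have hff' : Module.FaithfullyFlat B A := hff
    have h4 := Ideal.comap_mono (f := algebraMap B A) hle
    have h5 := Ideal.comap_map_eq_self_of_faithfullyFlat (B := A)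
      (Ideal.map (hB'.val : B' →ₐ[k] B) (RingHom.ker (Bialgebra.counitAlgHom k B')))
    intro b hb
    have h6 : b ∈ Ideal.comap (algebraMap B A) (Ideal.map (φ : B →ₐ[k] A)
        (RingHom.ker (Bialgebra.counitAlgHom k B))) := by
      rw [Ideal.mem_comap]
      exact Ideal.mem_map_of_mem (φ : B →ₐ[k] A) hb
    have h7 := h4 h6
    have h8 : b ∈ Ideal.comap (algebraMap B A) (Ideal.map (algebraMap B A)
      (Ideal.map (hB'.val : B' →ₐ[k] B) (RingHom.ker (Bialgebra.counitAlgHom k B')))) := h7
    rw [h5] at h8
    exact h8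
  exact Algebra.FiniteType.of_surjective (hB'.val : B' →ₐ[k] B) hsurj

/-- The kernel sequence of an injective bialgebra map `φ : B → A` (`A` of finite type), with `I = B⁺A`:
`Spec (A / I) → Spec A → Spec B` is a short exact sequence of fppf sheaves. -/
theorem shortExact_spec [Algebra.FiniteType k A] [Coalgebra.IsCocomm k A] [Coalgebra.IsCocomm k B]
    (φ : B →ₐc[k] A) (hφ : Function.Injective φ) (I : Ideal A) [I.IsHopfIdeal k]
    (hI : I = Ideal.map (φ : B →ₐ[k] A) (RingHom.ker (Bialgebra.counitAlgHom k B)))
    [IsMonHom (specMap k (Ideal.Quotient.mkₐ k I))] [IsMonHom (specMap k (φ : B →ₐ[k] A))]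
    (w : specMap k (Ideal.Quotient.mkₐ k I) ≫ specMap k (φ : B →ₐ[k] A) = 1) :
    (CGrpSh.seq Scheme.fppfPrecoverage (specMap k (Ideal.Quotient.mkₐ k I)) (specMap k (φ : B →ₐ[k] A)) w).ShortExact := by
  have hff : ((φ : B →ₐ[k] A) : B →+* A).FaithfullyFlat := faithfullyFlat φ hφ
  have hB : Algebra.FiniteType k B := finiteType_of_injective φ hφ
  obtain ⟨h1, h2⟩ := (flat_and_surjective_specMap_iff k (φ : B →ₐ[k] A)).2 hff
  have hfp : LocallyOfFinitePresentation (specMap k (φ : B →ₐ[k] A)).left := by
    have hN : IsNoetherianRing B := Algebra.FiniteType.isNoetherianRing k B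
    have h3 : RingHom.FiniteType ((φ : B →ₐ[k] A) : B →+* A) :=
      RingHom.FiniteType.of_comp_finiteType (f := algebraMap k B) (g := ((φ : B →ₐ[k] A) : B →+* A)) (by
        have : ((φ : B →ₐ[k] A) : B →+* A).comp (algebraMap k B) = algebraMap k A := by
          ext c; exact (φ : B →ₐ[k] A).commutes c
        rw [this]
        exact RingHom.finiteType_algebraMap.mpr inferInstance)
    have h4 : RingHom.FinitePresentation ((φ : B →ₐ[k] A) : B →+* A) :=
      RingHom.FinitePresentation.of_finiteType.mp h3
    exact (HasRingHomProperty.Spec_iff (P := @LocallyOfFinitePresentation)).mpr h4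
  exact shortExact_of_isKernel _ _ (isKernel_specMap k (φ : B →ₐ[k] A) I hI) w

/-- Every Hopf ideal of a cocommutative commutative Hopf algebra over a field is normal. -/
theorem isNormalHopfIdeal [Coalgebra.IsCocomm k A] (I : Ideal A) : SGA3.IsNormalHopfIdeal k A I := by
  intro R _ _ g h hh a ha
  rw [Groth.Agent.S3018.conv3_eq]
  have h1 : WithConv.toConv g * WithConv.toConv h * WithConv.toConv (g.comp (HopfAlgebra.antipodeAlgHom k A)) =
      WithConv.toConv h := by
    rw [_root_.mul_comm (WithConv.toConv g), _root_.mul_assoc, conv_mul_antipode, _root_.mul_one]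
  rw [h1]
  exact hh a ha

/-- Every Hopf ideal `I` of a commutative cocommutative Hopf algebra `A` over a field is `B⁺A` for some sub-Hopf
algebra `B` (the quotient of `Spec A` by the subgroup `Spec (A / I)` exists). -/
theorem exists_quotient [Coalgebra.IsCocomm k A] (I : Ideal A) [I.IsHopfIdeal k] :
    ∃ (B : Type u) (_ : CommRing B) (_ : HopfAlgebra k B) (_ : Coalgebra.IsCocomm k B) (φ : B →ₐc[k] A),
      Function.Injective φ ∧
      I = Ideal.map (φ : B →ₐ[k] A) (RingHom.ker (Bialgebra.counitAlgHom k B)) := by
  obtain ⟨B, hB, -, hIB⟩ := Groth.Agent.S3018.result k A I (isNormalHopfIdeal I)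
  have hB' : SubHopf.IsSubHopf (k := k) B := ⟨hB.1, hB.2⟩
  let _ := hB'.hopf
  refine ⟨B, inferInstance, hB'.hopf, isCocomm_of_injective hB'.val hB'.val_injective, hB'.val, hB'.val_injective, ?_⟩
  rw [hIB]
  apply le_antisymm
  · refine Ideal.span_le.2 ?_
    rintro a ⟨haB, ha0⟩
    have h3 : (⟨a, haB⟩ : B) ∈ RingHom.ker (Bialgebra.counitAlgHom k B) := ha0
    exact Ideal.mem_map_of_mem (hB'.val : B →ₐ[k] A) h3
  · refine Ideal.map_le_iff_le_comap.2 ?_
    intro b hb
    exact Ideal.subset_span ⟨b.2, hb⟩

end Hopf

end K620.HopfSeq
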