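import Groth.Agent.TateLoc.K620.HopfPow
import Groth.Agent.TateLoc.K620.HopfGa
import Groth.Agent.S4130
import Groth.Agent.S3264
import Groth.Prelude.Def_Red2

/-!
# Devissage of affine commutative group schemes of finite type over a field

`induct`: a property of commutative group schemes over a field `k` which is invariant under isomorphism, stable under extensions
(short exact sequences of fppf sheaves of affine commutative groups of finite type), and which holds for finite group schemes, tori and the additive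
group, holds for every affine commutative group scheme of finite type.
-/

set_option autoImplicit false
universe u
open CategoryTheory CategoryTheory.Limits MonoidalCategory CartesianMonoidalCategory MonObj GrpObj AlgebraicGeometry
open TensorProduct
open Groth.Agent.Books Groth.Agent.Books.AffBridge Groth.Agent.Books.AffBridge2
open K620.HopfSeq K620.HopfPow K620.HopfGa

namespace K620.Devissage

variable {k : Type u} [Field k]
  (P : ∀ (G : Over (Spec (CommRingCat.of k))) [GrpObj G] [IsCommMonObj G], Prop)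

/-- `P` is invariant under isomorphisms of group schemes. -/
def IsoClosed : Prop :=
  ∀ (G H : Over (Spec (CommRingCat.of k))) [GrpObj G] [IsCommMonObj G] [GrpObj H] [IsCommMonObj H] (e : G ≅ H)
    [IsMonHom e.hom], P G → P H

/-- `P` is stable under extensions of affine commutative group schemes of finite type. -/
def ExtClosed : Prop :=
  ∀ (G₁ G₂ G₃ : Over (Spec (CommRingCat.of k))) [GrpObj G₁] [IsCommMonObj G₁] [GrpObj G₂] [IsCommMonObj G₂]
    [GrpObj G₃] [IsCommMonObj G₃] [IsAffine G₁.left] [IsAffine G₂.left] [IsAffine G₃.left]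
    [LocallyOfFiniteType G₁.hom] [LocallyOfFiniteType G₂.hom] [LocallyOfFiniteType G₃.hom]
    (f : G₁ ⟶ G₂) (g : G₂ ⟶ G₃) [IsMonHom f] [IsMonHom g] (w : f ≫ g = 1),
    (CGrpSh.seq Scheme.fppfPrecoverage f g w).ShortExact → P G₁ → P G₃ → P G₂

variable {P}

instance isAffine_specOver (A : Type u) [CommRing A] [Algebra k A] : IsAffine (SpecOver k A).left :=
  inferInstanceAs (IsAffine (Spec (CommRingCat.of A)))

instance lft_specOver (A : Type u) [CommRing A] [Algebra k A] [Algebra.FiniteType k A] :
    LocallyOfFiniteType (SpecOver k A).hom :=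
  (locallyOfFiniteType_specOver_iff k A).2 inferInstance

section

variable {A B : Type u} [CommRing A] [CommRing B] [HopfAlgebra k A] [HopfAlgebra k B]
  [Coalgebra.IsCocomm k A] [Coalgebra.IsCocomm k B]

theorem of_equiv (iso : IsoClosed P) (q : A ≃ₐc[k] B) (h : P (SpecOver k A)) : P (SpecOver k B) :=
  iso _ _ (specIso k q) h

theorem of_injective (ext : ExtClosed P) [Algebra.FiniteType k A] (φ : B →ₐc[k] A) (hφ : Function.Injective φ)
    (J : Ideal A) [J.IsHopfIdeal k]
    (hJ : J = Ideal.map (φ : B →ₐ[k] A) (RingHom.ker (Bialgebra.counitAlgHom k B)))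
    (h₁ : P (SpecOver k (A ⧸ J))) (h₃ : P (SpecOver k B)) : P (SpecOver k A) := by
  have hB : Algebra.FiniteType k B := finiteType_of_injective φ hφ
  have i1 : IsMonHom (specMap k (Ideal.Quotient.mkₐ k J)) :=
    isMonHom_specMap k (Bialgebra.Quotient.mkBialgHom (R := k) J)
  have i2 : IsMonHom (specMap k (φ : B →ₐ[k] A)) := isMonHom_specMap k φ
  have w : specMap k (Ideal.Quotient.mkₐ k J) ≫ specMap k (φ : B →ₐ[k] A) = 1 :=
    isKernel_w (isKernel_specMap k (φ : B →ₐ[k] A) J hJ)
  exact ext _ _ _ _ _ w (shortExact_spec φ hφ J hJ w) h₁ h₃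

end

/-- Finite dimensional Hopf algebras. -/
theorem of_finite
    (fin : ∀ (G : Over (Spec (CommRingCat.of k))) [GrpObj G] [IsCommMonObj G] [IsFinite G.hom], P G)
    (A : Type u) [CommRing A] [HopfAlgebra k A] [Coalgebra.IsCocomm k A] [Module.Finite k A] : P (SpecOver k A) := by
  have h1 : IsFinite (SpecOver k A).hom := by
    have h2 : IsFinite (Spec.map (CommRingCat.ofHom (algebraMap k A))) := by
      rw [IsFinite.SpecMap_iff]
      exact RingHom.finite_algebraMap.mpr inferInstance
    exact h2
  exact fin _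

/-- Groups of multiplicative type. -/
theorem of_mult (ext : ExtClosed P)
    (fin : ∀ (G : Over (Spec (CommRingCat.of k))) [GrpObj G] [IsCommMonObj G] [IsFinite G.hom], P G)
    (tor : ∀ (T : Over (Spec (CommRingCat.of k))) [GrpObj T] [IsCommMonObj T] [IsAffine T.left]
      [LocallyOfFiniteType T.hom], Red.IsTorus T → P T)
    (A : Type u) [CommRing A] [HopfAlgebra k A] [Coalgebra.IsCocomm k A] [Algebra.FiniteType k A]
    (hA : SGA3b.IsMultTypeConst k A) : P (SpecOver k A) := by
  obtain ⟨D, _, _, φ, hφ, hT, hfin⟩ := exists_torus A hA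
  have h1 : Coalgebra.IsCocomm k D := isCocomm_of_injective φ hφ
  have h2 : Algebra.FiniteType k D := finiteType_of_injective φ hφ
  have h3 := isHopfIdeal_map φ
  exact of_injective ext φ hφ _ rfl (of_finite fin _) (tor _ hT)

section primitive

variable {H : Type u} [CommRing H] [HopfAlgebra k H] {y : H}

lemma counit_of_primitive (hy : CoalgebraStruct.comul (R := k) y = y ⊗ₜ[k] 1 + 1 ⊗ₜ[k] y) :
    CoalgebraStruct.counit (R := k) y = 0 := by
  have h4 := Coalgebra.rTensor_counit_comul (R := k) y
  rw [hy, map_add, LinearMap.rTensor_tmul, LinearMap.rTensor_tmul, Bialgebra.counit_one] at h4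
  have h5 : (CoalgebraStruct.counit (R := k) y) ⊗ₜ[k] (1 : H) = 0 := by
    simpa using h4
  have h6 := congrArg (TensorProduct.lid k H) h5
  rw [TensorProduct.lid_tmul, map_zero] at h6
  have h7 := congrArg (CoalgebraStruct.counit (R := k)) h6
  rw [map_smul, Bialgebra.counit_one, map_zero, smul_eq_mul, _root_.mul_one] at h7
  exact h7

lemma antipode_of_primitive (hy : CoalgebraStruct.comul (R := k) y = y ⊗ₜ[k] 1 + 1 ⊗ₜ[k] y) :
    HopfAlgebraStruct.antipode k y = - y := by
  have h := HopfAlgebra.mul_antipode_rTensor_comul_apply (R := k) y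
  rw [hy, counit_of_primitive hy, map_add, map_add, LinearMap.rTensor_tmul, LinearMap.rTensor_tmul,
    LinearMap.mul'_apply, LinearMap.mul'_apply, HopfAlgebra.antipode_one, _root_.mul_one, _root_.one_mul, map_zero] at h
  exact eq_neg_of_add_eq_zero_left h

/-- The subalgebra generated by a primitive element is a sub-Hopf algebra. -/
lemma isSubHopf_primitive (hy : CoalgebraStruct.comul (R := k) y = y ⊗ₜ[k] 1 + 1 ⊗ₜ[k] y) :
    SubHopf.IsSubHopf (k := k) (Algebra.adjoin k {y}) := by
  have hmem : y ∈ Algebra.adjoin k {y} := Algebra.subset_adjoin rfl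
  refine SubHopfFG.isSubHopf_adjoin _ ?_ ?_
  · intro a ha
    rw [Set.mem_singleton_iff.1 ha, hy]
    refine ⟨(⟨y, hmem⟩ : Algebra.adjoin k {y}) ⊗ₜ 1 + 1 ⊗ₜ ⟨y, hmem⟩, ?_⟩
    change SubHopf.incl2 (Algebra.adjoin k {y}) _ = _
    rw [map_add]
    rfl
  · intro a ha
    rw [Set.mem_singleton_iff.1 ha, antipode_of_primitive hy]
    exact Subalgebra.neg_mem _ hmem

end primitive

/-- The sub-Hopf algebra generated by a primitive element is finite dimensional or is the Hopf algebra of the additive group. -/
theorem of_primitive (iso : IsoClosed P)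
    (fin : ∀ (G : Over (Spec (CommRingCat.of k))) [GrpObj G] [IsCommMonObj G] [IsFinite G.hom], P G)
    [IsCommMonObj (Red.Ga (Spec (CommRingCat.of k)))] (ga : P (Red.Ga (Spec (CommRingCat.of k))))
    (D : Type u) [CommRing D] [HopfAlgebra k D] [Coalgebra.IsCocomm k D] (x : D)
    (hx : CoalgebraStruct.comul (R := k) x = x ⊗ₜ[k] 1 + 1 ⊗ₜ[k] x) (hD : Algebra.adjoin k {x} = ⊤) :
    P (SpecOver k D) := by
  have hsurj : Function.Surjective (Polynomial.aeval x : Polynomial k →ₐ[k] D) := by
    rw [← AlgHom.range_eq_top, ← Algebra.adjoin_singleton_eq_range_aeval, hD]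
  by_cases hinj : Function.Injective (Polynomial.aeval x : Polynomial k →ₐ[k] D)
  · obtain ⟨e, he⟩ := exists_ga_iso k x hx ⟨hinj, hsurj⟩
    exact iso _ _ e ga
  · have halg : IsAlgebraic k x := by
      rw [injective_iff_map_eq_zero] at hinj
      push Not at hinj
      obtain ⟨p, hp, hp0⟩ := hinj
      exact ⟨p, hp0, hp⟩
    have h1 : Module.Finite k (Algebra.adjoin k {x}) := Algebra.finite_adjoin_simple_of_isIntegral halg.isIntegral
    have h2 : Module.Finite k D := by
      rw [hD] at h1
      exact Module.Finite.equiv (Subalgebra.topEquiv (R := k) (A := D)).toLinearEquiv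
    exact of_finite fin D

/-- Splitting off the group generated by a primitive element. -/
theorem step (iso : IsoClosed P) (ext : ExtClosed P)
    (fin : ∀ (G : Over (Spec (CommRingCat.of k))) [GrpObj G] [IsCommMonObj G] [IsFinite G.hom], P G)
    [IsCommMonObj (Red.Ga (Spec (CommRingCat.of k)))] (ga : P (Red.Ga (Spec (CommRingCat.of k))))
    (C : Type u) [CommRing C] [HopfAlgebra k C] [Coalgebra.IsCocomm k C] [Algebra.FiniteType k C] (x : C)
    (hx : CoalgebraStruct.comul (R := k) x = x ⊗ₜ[k] 1 + 1 ⊗ₜ[k] x)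
    (h : ∀ (J : Ideal C) [J.IsHopfIdeal k], x ∈ J → P (SpecOver k (C ⧸ J))) : P (SpecOver k C) := by
  have hS := isSubHopf_primitive hx
  have hmem : x ∈ Algebra.adjoin k {x} := Algebra.subset_adjoin rfl
  let _ := hS.hopf
  have hcc : Coalgebra.IsCocomm k (Algebra.adjoin k {x}) := isCocomm_of_injective hS.val hS.val_injective
  have hJ := isHopfIdeal_map hS.val
  refine of_injective ext hS.val hS.val_injective _ rfl (h _ ?_) ?_
  · have h4 : (⟨x, hmem⟩ : Algebra.adjoin k {x}) ∈ RingHom.ker (Bialgebra.counitAlgHom k (Algebra.adjoin k {x})) :=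
      counit_of_primitive hx
    exact Ideal.mem_map_of_mem (hS.val : Algebra.adjoin k {x} →ₐ[k] C) h4
  · refine of_primitive iso fin ga _ (⟨x, hmem⟩ : Algebra.adjoin k {x}) ?_ ?_
    · apply SubHopf.incl2_injective (k := k) (Algebra.adjoin k {x})
      have h5 : SubHopf.incl2 (Algebra.adjoin k {x}) (CoalgebraStruct.comul (R := k) (⟨x, hmem⟩ : Algebra.adjoin k {x})) =
          CoalgebraStruct.comul (R := k) x := hS.incl2_comulSub ⟨x, hmem⟩
      rw [h5, hx, map_add]
      rfl
    · rw [eq_top_iff]
      rintro ⟨y, hy⟩ -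
      induction hy using Algebra.adjoin_induction with
      | mem z hz =>
        have : z = x := hz
        subst this
        exact Algebra.subset_adjoin rfl
      | algebraMap r => exact Subalgebra.algebraMap_mem _ r
      | add a b ha hb h1 h2 => exact Subalgebra.add_mem _ h1 h2
      | mul a b ha hb h1 h2 => exact Subalgebra.mul_mem _ h1 h2

/-- Unipotent groups. -/
theorem of_unip (iso : IsoClosed P) (ext : ExtClosed P)
    (fin : ∀ (G : Over (Spec (CommRingCat.of k))) [GrpObj G] [IsCommMonObj G] [IsFinite G.hom], P G)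
    [IsCommMonObj (Red.Ga (Spec (CommRingCat.of k)))] (ga : P (Red.Ga (Spec (CommRingCat.of k))))
    (A : Type u) [CommRing A] [HopfAlgebra k A] [Coalgebra.IsCocomm k A] [Algebra.FiniteType k A]
    (hU : HopfRep.IsUnipotent k A) (I : Ideal A) (hI : I.IsHopfIdeal k) : P (SpecOver k (A ⧸ I)) := by
  have hN : IsNoetherianRing A := Algebra.FiniteType.isNoetherianRing k A
  induction I using WellFoundedGT.induction with
  | _ I ih =>
  by_cases h0 : I = RingHom.ker (Bialgebra.counitAlgHom k A)
  · have h1 : Module.Finite k (A ⧸ I) := by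
      refine Module.Finite.of_surjective (Algebra.linearMap k (A ⧸ I)) ?_
      intro y
      obtain ⟨a, rfl⟩ := Ideal.Quotient.mk_surjective y
      refine ⟨CoalgebraStruct.counit (R := k) a, ?_⟩
      have h2 : a - algebraMap k A (CoalgebraStruct.counit a) ∈ I := by
        rw [h0, RingHom.mem_ker, map_sub, AlgHom.commutes]
        simp
      have h3 := (Ideal.Quotient.eq).2 h2
      exact h3.symm
    exact of_finite fin _
  obtain ⟨x, hx0, hx⟩ := (Groth.Agent.S3264.result k A).1 hU I h0
  refine step iso ext fin ga (A ⧸ I) x hx fun J hJ hxJ => ?_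
  let π : A →ₐc[k] (A ⧸ I) ⧸ J :=
    (Bialgebra.Quotient.mkBialgHom (R := k) J).comp (Bialgebra.Quotient.mkBialgHom (R := k) I)
  have hπ : Function.Surjective π := Ideal.Quotient.mk_surjective.comp Ideal.Quotient.mk_surjective
  have hK : (RingHom.ker π).IsHopfIdeal k := isHopfIdeal_ker π
  have hlt : I < RingHom.ker π := by
    refine lt_of_le_of_ne (fun a ha => ?_) (fun heq => ?_)
    · change Ideal.Quotient.mk J (Ideal.Quotient.mk I a) = 0
      rw [Ideal.Quotient.eq_zero_iff_mem.2 ha, map_zero]
    · obtain ⟨a, rfl⟩ := Ideal.Quotient.mk_surjective x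
      apply hx0
      rw [Ideal.Quotient.eq_zero_iff_mem, heq]
      change Ideal.Quotient.mk J (Ideal.Quotient.mk I a) = 0
      rw [Ideal.Quotient.eq_zero_iff_mem]
      exact hxJ
  exact of_equiv iso (quotKerEquiv π hπ (RingHom.ker π) rfl) (ih _ hlt hK)

/-- Devissage: see the module docstring. -/
theorem induct' (iso : IsoClosed P) (ext : ExtClosed P)
    (fin : ∀ (G : Over (Spec (CommRingCat.of k))) [GrpObj G] [IsCommMonObj G] [IsFinite G.hom], P G)
    (tor : ∀ (T : Over (Spec (CommRingCat.of k))) [GrpObj T] [IsCommMonObj T] [IsAffine T.left]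
      [LocallyOfFiniteType T.hom], Red.IsTorus T → P T)
    [IsCommMonObj (Red.Ga (Spec (CommRingCat.of k)))] (ga : P (Red.Ga (Spec (CommRingCat.of k))))
    (G : Over (Spec (CommRingCat.of k))) [GrpObj G] [IsCommMonObj G] [IsAffine G.left] [LocallyOfFiniteType G.hom] :
    P G := by
  obtain ⟨A, _, _, _, e, he, hft⟩ := exists_model G
  have hA : Algebra.FiniteType k A := hft inferInstance
  have he' : IsMonHom e.symm.hom := inferInstanceAs (IsMonHom e.inv)
  refine iso _ _ e.symm ?_
  obtain ⟨J, hJ, hM, -, B, _, _, φ, hφ, hJB, hU⟩ := Groth.Agent.S4130.result k A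
  have hB : Coalgebra.IsCocomm k B := isCocomm_of_injective φ hφ
  have hBf : Algebra.FiniteType k B := finiteType_of_injective φ hφ
  refine of_injective ext φ hφ J hJB (of_mult ext fin tor _ hM) ?_
  have hK : (RingHom.ker (BialgHom.id k B)).IsHopfIdeal k := isHopfIdeal_ker (BialgHom.id k B)
  exact of_equiv iso (quotKerEquiv (BialgHom.id k B) Function.surjective_id _ rfl)
    (of_unip iso ext fin ga B hU _ hK)

/-- **Devissage** of affine commutative group schemes of finite type over a field `k`: a property which is invariant under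
isomorphisms, stable under extensions and true for finite group schemes, tori and the additive group holds for all of
them. -/
theorem induct (k : Type u) [Field k]
    (P : ∀ (G : Over (Spec (CommRingCat.of k))) [GrpObj G] [IsCommMonObj G], Prop)
    (iso : ∀ (G H : Over (Spec (CommRingCat.of k))) [GrpObj G] [IsCommMonObj G] [GrpObj H] [IsCommMonObj H] (e : G ≅ H)
      [IsMonHom e.hom], P G → P H)
    (ext : ∀ (G₁ G₂ G₃ : Over (Spec (CommRingCat.of k))) [GrpObj G₁] [IsCommMonObj G₁] [GrpObj G₂] [IsCommMonObj G₂]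
      [GrpObj G₃] [IsCommMonObj G₃] [IsAffine G₁.left] [IsAffine G₂.left] [IsAffine G₃.left]
      [LocallyOfFiniteType G₁.hom] [LocallyOfFiniteType G₂.hom] [LocallyOfFiniteType G₃.hom]
      (f : G₁ ⟶ G₂) (g : G₂ ⟶ G₃) [IsMonHom f] [IsMonHom g] (w : f ≫ g = 1),
      (CGrpSh.seq Scheme.fppfPrecoverage f g w).ShortExact → P G₁ → P G₃ → P G₂)
    (fin : ∀ (G : Over (Spec (CommRingCat.of k))) [GrpObj G] [IsCommMonObj G] [IsFinite G.hom], P G)
    (tor : ∀ (T : Over (Spec (CommRingCat.of k))) [GrpObj T] [IsCommMonObj T] [IsAffine T.left]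
      [LocallyOfFiniteType T.hom], Red.IsTorus T → P T)
    (ga : P (Red.Ga (Spec (CommRingCat.of k))))
    (G : Over (Spec (CommRingCat.of k))) [GrpObj G] [IsCommMonObj G] [IsAffine G.left] [LocallyOfFiniteType G.hom] :
    P G :=
  induct' (P := P) iso ext fin tor ga G

end K620.Devissage
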