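import Groth.Agent.TateLoc.K620.HopfSeq
import Groth.Agent.Sga3A.MTConst
import Groth.Agent.Sga3A.MTTorsion
import Groth.Agent.Sga3A.PowConv
import Groth.Agent.Sga3.H786.TCAff
import Groth.Agent.Books.NormalKer2

/-!
# Power maps, images of bialgebra maps and tori inside groups of multiplicative type

* `powB`: the `n`-th power map of a commutative cocommutative Hopf algebra as a bialgebra map;
* `isHopfIdeal_map`: the ideal generated by the image of the augmentation ideal is a Hopf ideal;
* `exists_range`: image factorization of bialgebra maps over a field;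
* `exists_exponent`: an exponent for the torsion of a finitely generated commutative group;
* `isTorusConst_of`: the image of the `N`-th power map of a group of multiplicative type is a torus when `N` kills the torsion of
  the character group.
-/

set_option autoImplicit false
universe u
open CategoryTheory CategoryTheory.Limits MonoidalCategory CartesianMonoidalCategory MonObj GrpObj AlgebraicGeometry
open TensorProduct
open Groth.Agent.Books Groth.Agent.Books.AffBridge Groth.Agent.Books.AffBridge2
open Groth.Agent.Sga3A.MTBasis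

namespace K620.HopfPow

section basic

variable {k : Type u} [Field k] {A B : Type u} [CommRing A] [CommRing B] [HopfAlgebra k A] [HopfAlgebra k B]

/-- The range of a bialgebra map is a sub-Hopf algebra. -/
lemma isSubHopf_range (ψ : B →ₐc[k] A) : SubHopf.IsSubHopf (k := k) (ψ : B →ₐ[k] A).range where
  comul_mem := by
    rintro _ ⟨b, rfl⟩
    have h : (CoalgebraStruct.comul (R := k) (ψ b) : A ⊗[k] A) =
      TensorProduct.map (ψ : B →ₐ[k] A).toLinearMap (ψ : B →ₐ[k] A).toLinearMap
        (CoalgebraStruct.comul (R := k) b) := (CoalgHomClass.map_comp_comul_apply ψ b).symm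
    change CoalgebraStruct.comul (R := k) (ψ b) ∈ _
    rw [h]
    refine ⟨TensorProduct.map (ψ : B →ₐ[k] A).rangeRestrict.toLinearMap
      (ψ : B →ₐ[k] A).rangeRestrict.toLinearMap (CoalgebraStruct.comul (R := k) b), ?_⟩
    rw [← LinearMap.comp_apply, ← TensorProduct.map_comp]
    rfl
  antipode_mem := by
    rintro _ ⟨b, rfl⟩
    exact ⟨HopfAlgebra.antipode k b, (antipode_bialgHom_apply ψ b).symm⟩

/-- The ideal generated by the image of the augmentation ideal is the augmentation ideal of the range. -/
lemma map_ker_counit (ψ : B →ₐc[k] A) : Ideal.map (ψ : B →ₐ[k] A) (RingHom.ker (Bialgebra.counitAlgHom k B)) =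
    NormalKer.augIdeal (ψ : B →ₐ[k] A).range := by
  apply le_antisymm
  · rw [Ideal.map_le_iff_le_comap]
    intro b hb
    refine Ideal.subset_span ⟨⟨b, rfl⟩, ?_⟩
    change CoalgebraStruct.counit (R := k) (ψ b) = 0
    rw [CoalgHomClass.counit_comp_apply]
    exact hb
  · rw [NormalKer.augIdeal, Ideal.span_le]
    rintro _ ⟨⟨b, rfl⟩, hb⟩
    refine Ideal.mem_map_of_mem (ψ : B →ₐ[k] A) (x := b) ?_
    change CoalgebraStruct.counit (R := k) (ψ b) = 0 at hb
    rw [CoalgHomClass.counit_comp_apply] at hb
    exact hb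

/-- The ideal generated by the image of the augmentation ideal is a Hopf ideal. -/
lemma isHopfIdeal_map (ψ : B →ₐc[k] A) :
    (Ideal.map (ψ : B →ₐ[k] A) (RingHom.ker (Bialgebra.counitAlgHom k B))).IsHopfIdeal k := by
  rw [map_ker_counit]
  exact NormalKer.isHopfIdeal_augIdeal (isSubHopf_range ψ)

/-- Image factorization of bialgebra maps over a field. -/
theorem exists_range (f : A →ₐc[k] B) : ∃ (D : Type u) (_ : CommRing D) (_ : HopfAlgebra k D)
    (q : A →ₐc[k] D) (φ : D →ₐc[k] B), Function.Surjective q ∧ Function.Injective φ ∧ ∀ a, φ (q a) = f a := by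
  have hI : (RingHom.ker f).IsHopfIdeal k := isHopfIdeal_ker f
  let g : (A ⧸ RingHom.ker f) →ₐ[k] B := Ideal.Quotient.liftₐ (RingHom.ker f) (f : A →ₐ[k] B) (fun a ha => ha)
  let φ : (A ⧸ RingHom.ker f) →ₐc[k] B := BialgHom.ofAlgHom g
    (by
      apply Ideal.Quotient.algHom_ext
      ext a
      exact CoalgHomClass.counit_comp_apply f a)
    (by
      apply Ideal.Quotient.algHom_ext
      apply AlgHom.toLinearMap_injective
      have h1 : ∀ a, CoalgebraStruct.comul (R := k) (f a) =
          TensorProduct.map f.toLinearMap f.toLinearMap (CoalgebraStruct.comul a) := fun a =>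
        (CoalgHomClass.map_comp_comul_apply f a).symm
      ext a
      refine Eq.trans ?_ (h1 a).symm
      change (TensorProduct.map _ _) ((TensorProduct.map _ _) (CoalgebraStruct.comul a)) = _
      rw [← LinearMap.comp_apply, ← TensorProduct.map_comp]
      rfl)
  refine ⟨A ⧸ RingHom.ker f, inferInstance, inferInstance, Bialgebra.Quotient.mkBialgHom (R := k) (RingHom.ker f), φ,
    Ideal.Quotient.mk_surjective, ?_, fun a => rfl⟩
  rw [injective_iff_map_eq_zero]
  intro x hx
  obtain ⟨a, rfl⟩ := Ideal.Quotient.mk_surjective x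
  rw [Ideal.Quotient.eq_zero_iff_mem]
  exact hx

/-- A surjective bialgebra map sends the augmentation ideal onto the augmentation ideal. -/
lemma map_ker_counit_of_surjective (q : A →ₐc[k] B) (hq : Function.Surjective q) :
    Ideal.map (q : A →ₐ[k] B) (RingHom.ker (Bialgebra.counitAlgHom k A)) =
      RingHom.ker (Bialgebra.counitAlgHom k B) := by
  apply le_antisymm
  · rw [Ideal.map_le_iff_le_comap]
    intro a ha
    change CoalgebraStruct.counit (R := k) (q a) = 0
    rw [CoalgHomClass.counit_comp_apply]
    exact ha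
  · intro b hb
    obtain ⟨a, rfl⟩ := hq b
    refine Ideal.mem_map_of_mem (q : A →ₐ[k] B) (x := a) ?_
    change CoalgebraStruct.counit (R := k) (q a) = 0 at hb
    rw [CoalgHomClass.counit_comp_apply] at hb
    exact hb

variable (k A) in
/-- The `n`-th power map of a commutative group as a bialgebra map. -/
noncomputable def powB [Coalgebra.IsCocomm k A] (n : ℕ) : A →ₐc[k] A :=
  ((WithConv.toConv (BialgHom.id k A)) ^ n).ofConv

lemma powB_coe [Coalgebra.IsCocomm k A] (n : ℕ) : ((powB k A n : A →ₐc[k] A) : A →ₐ[k] A) = SGA3b.powConv k A n :=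
  congrArg WithConv.ofConv (BialgHom.toAlgHom_convPow (WithConv.toConv (BialgHom.id k A)) n)

lemma powB_apply [Coalgebra.IsCocomm k A] (n : ℕ) (a : A) : powB k A n a = SGA3b.powConv k A n a :=
  congr($(powB_coe n) a)

end basic

/-- An exponent for the torsion of a finitely generated commutative group. -/
lemma exists_exponent (M : Type*) [CommGroup M] [Group.FG M] :
    ∃ N : ℕ, 0 < N ∧ ∀ m : M, IsOfFinOrder m → m ^ N = 1 := by
  have hfg : Module.Finite ℤ (Additive M) := by
    rw [Module.Finite.iff_addGroup_fg]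
    exact GroupFG.iff_add_fg.1 ‹_›
  have hT : Finite (Submodule.torsion ℤ (Additive M)) :=
    Module.finite_of_fg_torsion _ Submodule.torsion_isTorsion
  refine ⟨Nat.card (Submodule.torsion ℤ (Additive M)), Nat.card_pos, fun m hm => ?_⟩
  have hmem : Additive.ofMul m ∈ Submodule.torsion ℤ (Additive M) := by
    obtain ⟨n, hn, hn'⟩ := isOfFinOrder_iff_pow_eq_one.mp hm
    rw [Submodule.mem_torsion_iff]
    refine ⟨⟨(n : ℤ), mem_nonZeroDivisors_of_ne_zero (by exact_mod_cast hn.ne')⟩, ?_⟩
    change (n : ℤ) • Additive.ofMul m = 0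
    rw [natCast_zsmul, ← ofMul_pow, hn', ofMul_one]
  have h1 := card_nsmul_eq_zero' (x := (⟨Additive.ofMul m, hmem⟩ : Submodule.torsion ℤ (Additive M)))
  have h2 := congrArg (fun z : Submodule.torsion ℤ (Additive M) => (z : Additive M)) h1
  exact h2

/-- A finitely generated torsion free commutative group is `ℤ^r`. -/
lemma exists_mulEquiv (M : Type*) [CommGroup M] [Group.FG M]
    (h : ∀ (g : M) (n : ℕ), 0 < n → g ^ n = 1 → g = 1) :
    ∃ r : ℕ, Nonempty (M ≃* Multiplicative (Fin r → ℤ)) := by
  have hfg : Module.Finite ℤ (Additive M) := by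
    rw [Module.Finite.iff_addGroup_fg]
    exact GroupFG.iff_add_fg.1 ‹_›
  have htf : Module.IsTorsionFree ℤ (Additive M) := by
    rw [Module.isTorsionFree_iff_smul_eq_zero]
    intro n x hx
    rw [or_iff_not_imp_left]
    intro hn
    have key : ∀ m : ℕ, 0 < m → m • x = 0 → x = 0 := fun m hm hm' => h (Additive.toMul x) m hm hm'
    refine key n.natAbs (Int.natAbs_pos.2 hn) ?_
    rcases Int.natAbs_eq n with h1 | h1
    · rw [← natCast_zsmul, ← h1, hx]
    · rw [h1, neg_smul, neg_eq_zero, natCast_zsmul] at hx
      exact hx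
  have hfree : Module.Free ℤ (Additive M) := inferInstance
  let b := Module.finBasis ℤ (Additive M)
  exact ⟨Module.finrank ℤ (Additive M), ⟨(MulEquiv.toAdditive.symm b.equivFun.toAddEquiv :
    M ≃* Multiplicative (Fin (Module.finrank ℤ (Additive M)) → ℤ))⟩⟩

section torus

variable {k : Type u} [Field k] {A D : Type u} [CommRing A] [CommRing D] [HopfAlgebra k A] [HopfAlgebra k D]
  {R' : Type u} [CommRing R'] [Algebra k R'] {M : Type u} [CommGroup M]

/-- The image of the `N`-th power map, after a base change making the group diagonalizable. -/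
theorem nonempty_gbasis (g : GBasis R' (R' ⊗[k] A) M) (N : ℕ) (q : A →ₐc[k] D) (hq : Function.Surjective q)
    (φ : D →ₐc[k] A) (hφ : Function.Injective φ) (h : ∀ a, φ (q a) = SGA3b.powConv k A N a) :
    Nonempty (GBasis R' (R' ⊗[k] D) (powMonoidHom N : M →* M).range) := by
  classical
  let qq : R' ⊗[k] A →ₐc[R'] R' ⊗[k] D := Bialgebra.TensorProduct.map (BialgHom.id R' R') q
  let ψ : R' ⊗[k] D →ₐc[R'] R' ⊗[k] A := Bialgebra.TensorProduct.map (BialgHom.id R' R') φ
  have hqq : Function.Surjective qq := by
    intro z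
    induction z with
    | zero => exact ⟨0, map_zero _⟩
    | add x y hx hy =>
      obtain ⟨x', rfl⟩ := hx
      obtain ⟨y', rfl⟩ := hy
      exact ⟨x' + y', map_add _ _ _⟩
    | tmul r d =>
      obtain ⟨a, rfl⟩ := hq d
      exact ⟨r ⊗ₜ a, rfl⟩
  have hψ : Function.Injective ψ := by
    have h1 : Function.Injective (LinearMap.lTensor R' (φ : D →ₗ[k] A)) :=
      Module.Flat.lTensor_preserves_injective_linearMap _ hφ
    have h2 : (ψ : R' ⊗[k] D → R' ⊗[k] A) = LinearMap.lTensor R' (φ : D →ₗ[k] A) := by
      ext z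
      induction z with
      | zero => rw [map_zero, map_zero]
      | add x y hx hy => rw [map_add, map_add, hx, hy]
      | tmul r d => rfl
    rw [h2]
    exact h1
  have hψq : ∀ x, ψ (qq x) = SGA3b.powConv R' (R' ⊗[k] A) N x := by
    intro x
    induction x with
    | zero => rw [map_zero, map_zero, map_zero]
    | add x y hx hy => rw [map_add, map_add, map_add, hx, hy]
    | tmul r a =>
      rw [Groth.Agent.Sga3A.PowConv.powConv_tmul', ← h]
      rfl
  have hb : ∀ m : M, ψ (qq (g.b m)) = g.b (m ^ N) := by
    intro m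
    rw [hψq, Groth.Agent.Sga3A.MTTorsion.powConv_groupLike (g.gl m)]
    exact (map_pow g.hom m N).symm
  let lift : (powMonoidHom N : M →* M).range → M := fun y => y.2.choose
  have hlift : ∀ y : (powMonoidHom N : M →* M).range, (lift y) ^ N = (y : M) := fun y => y.2.choose_spec
  let bb : (powMonoidHom N : M →* M).range → R' ⊗[k] D := fun y => qq (g.b (lift y))
  have hbb : ∀ y, ψ (bb y) = g.b (y : M) := fun y => by rw [hb, hlift]
  have hli : LinearIndependent R' bb := by
    have h1 : LinearIndependent R' ((ψ : R' ⊗[k] D →ₗ[R'] R' ⊗[k] A) ∘ bb) := by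
      have h2 : ((ψ : R' ⊗[k] D →ₗ[R'] R' ⊗[k] A) ∘ bb) = g.b ∘ (Subtype.val : (powMonoidHom N : M →* M).range → M) :=
        funext hbb
      rw [h2]
      exact g.b.linearIndependent.comp _ Subtype.val_injective
    exact LinearIndependent.of_comp _ h1
  have hsp : ⊤ ≤ Submodule.span R' (Set.range bb) := by
    intro x _
    obtain ⟨z, rfl⟩ := hqq x
    have hz : z ∈ Submodule.span R' (Set.range g.b) := by rw [g.b.span_eq]; trivial
    induction hz using Submodule.span_induction with
    | zero => rw [map_zero]; exact Submodule.zero_mem _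
    | add x y _ _ hx hy => rw [map_add]; exact Submodule.add_mem _ (hx trivial) (hy trivial)
    | smul c x _ hx => rw [map_smul]; exact Submodule.smul_mem _ _ (hx trivial)
    | mem x hx =>
      obtain ⟨m, rfl⟩ := hx
      have h3 : qq (g.b m) = bb ⟨m ^ N, m, rfl⟩ := by
        apply hψ
        rw [hb, hbb]
      rw [h3]
      exact Submodule.subset_span ⟨_, rfl⟩
  let b := Module.Basis.mk hli hsp
  have hbv : ∀ y, b y = bb y := fun y => Module.Basis.mk_apply hli hsp y
  exact ⟨{
    b := b
    one := by
      rw [hbv]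
      apply hψ
      rw [hbb, map_one]
      exact g.one
    mul := fun m n => by
      rw [hbv, hbv, hbv]
      apply hψ
      rw [map_mul, hbb, hbb, hbb]
      exact g.mul _ _
    gl := fun m => by
      rw [hbv]
      exact (g.gl _).map qq }⟩

/-- A group of multiplicative type `Spec A` of finite type over a field is an extension of a torus by a finite group: there are
a sub-Hopf algebra `φ : D → A` which is the Hopf algebra of a torus, such that `A / D⁺A` is finite dimensional. -/
theorem exists_torus (A : Type u) [CommRing A] [HopfAlgebra k A] [Algebra.FiniteType k A] [Coalgebra.IsCocomm k A]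
    (hA : SGA3b.IsMultTypeConst k A) :
    ∃ (D : Type u) (_ : CommRing D) (_ : HopfAlgebra k D) (φ : D →ₐc[k] A), Function.Injective φ ∧
      Red.IsTorus (SpecOver k D) ∧
      Module.Finite k (A ⧸ Ideal.map (φ : D →ₐ[k] A) (RingHom.ker (Bialgebra.counitAlgHom k D))) := by
  obtain ⟨R', _, _, hff, M, _, ⟨e⟩⟩ := hA
  have hnt : Nontrivial R' := by
    have h0 : Nontrivial (k ⊗[k] R') := inferInstance
    exact (TensorProduct.lid k R').toEquiv.symm.nontrivial
  let g := GBasis.ofBialgEquiv e
  have hfg : Group.FG M := Groth.Agent.Sga3A.MTConst.fg_of_gbasis g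
  obtain ⟨N, hN, hexp⟩ := exists_exponent M
  obtain ⟨D, _, _, q, φ, hq, hφ, hqφ⟩ := exists_range (powB k A N)
  have h : ∀ a, φ (q a) = SGA3b.powConv k A N a := fun a => (hqφ a).trans (powB_apply N a)
  obtain ⟨gD⟩ := nonempty_gbasis g N q hq φ hφ h
  refine ⟨D, inferInstance, inferInstance, φ, hφ, ?_, ?_⟩
  · have hfg' : Group.FG (powMonoidHom N : M →* M).range := Group.fg_range _
    obtain ⟨r, ⟨e'⟩⟩ := exists_mulEquiv (powMonoidHom N : M →* M).range (by
      rintro ⟨_, m, rfl⟩ n hn h1
      have h2 : (m ^ N) ^ n = 1 := congrArg Subtype.val h1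
      rw [← pow_mul] at h2
      have h3 := hexp m (isOfFinOrder_iff_pow_eq_one.mpr ⟨N * n, Nat.mul_pos hN hn, h2⟩)
      exact Subtype.ext h3)
    have hT : SGA3b.IsTorusConst k D := ⟨R', _, _, hff, r, ⟨(gD.reindex e').bialgEquiv.symm⟩⟩
    exact Groth.Agent.Sga3.H786.TCAff.isTorus_specOver (Groth.Agent.Sga3.H786.TCAff.isTorus_of_const hT)
  · have h1 : Ideal.map (φ : D →ₐ[k] A) (RingHom.ker (Bialgebra.counitAlgHom k D)) = SGA3b.torsionIdeal k A N := by
      rw [← map_ker_counit_of_surjective q hq, SGA3b.torsionIdeal]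
      have h2 : ((φ : D →ₐ[k] A).comp (q : A →ₐ[k] D)) = SGA3b.powConv k A N := by
        ext a; exact h a
      rw [← h2]
      exact Ideal.map_map _ _
    rw [h1]
    exact Groth.Agent.Sga3A.MTTorsion.finite_quot g N hN

end torus

end K620.HopfPow
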